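import Cfsg.Agent.H209.EPX.Defs
import Cfsg.Agent.ChevalleyStructure.NPerm
import Cfsg.Agent.S0279
import Cfsg.Agent.S0280
import Cfsg.Agent.S1063

/-!
# S5745: `U₃(9)` is not a subgroup of `E₆(2)` (helper41)

The orders of `U₃(9)` and `E₆(2)` have the same `3`-part `3⁶`, the elements of `3`-power order of `U₃(9)` have cube `1`, and
`E₆(2)` has an element of order `9` (a representative of an element of order `9` of the Weyl group).
-/

set_option autoImplicit false

namespace Cfsg.Agent.H41.EPX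

open Cfsg Cfsg.Lie Cfsg.Agent.H209.EPX

universe u v w

/-! ### elements of order `9` of `E₆(q)` -/

section nine

open Cfsg.Lie.ChevalleyDatum Cfsg.Agent.ChevalleyStructure Cfsg.Agent.ChevalleyStructure.Elts
  Cfsg.Agent.ChevalleyStructure.NPerm

variable (F : Type u) [Field F]

theorem inE6 : InList chevE6 := by simp

/-- the word of an element of order `9` of the Weyl group -/
def wd : List ℕ := [0, 1, 2, 3, 4, 5, 2, 3]

/-- the action on the roots -/
def act (l : List ℕ) (s : ℕ) : ℕ := l.foldr (fun i s => chevE6.reflectRoot i s) s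

/-- the product of the `n_i` -/
noncomputable def nn (l : List ℕ) : GL chevE6.Idx F := (l.map fun i => nG inE6 (chevE6.simple i) (1 : F)).prod

theorem nn_mem (l : List ℕ) : nn F l ∈ chevE6.group F := by
  refine Subgroup.list_prod_mem _ fun x hx => ?_
  obtain ⟨i, -, rfl⟩ := List.mem_map.1 hx
  exact nG_mem_group inE6 _ _

theorem conjRoot_nn (l : List ℕ) (hl : ∀ i ∈ l, i < chevE6.rank) {s : ℕ} (hs : s < chevE6.nroots) :
    ConjRoot chevE6 F (nn F l) s (act l s) ∧ act l s < chevE6.nroots := by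
  induction l with
  | nil => exact ⟨conjRoot_one s, hs⟩
  | cons i l ih =>
    obtain ⟨h1, h2⟩ := ih fun j hj => hl j (List.mem_cons_of_mem _ hj)
    have hi := hl i List.mem_cons_self
    have h3 := h1.mul (conjRoot_nG (F := F) inE6 hi h2)
    refine ⟨?_, reflectRoot_lt inE6 hi h2⟩
    have h4 : nn F (i :: l) = nG inE6 (chevE6.simple i) 1 * nn F l := by
      rw [nn, nn, List.map_cons, List.prod_cons]
    rw [h4]
    exact h3

theorem wd_lt : ∀ i ∈ wd, i < chevE6.rank := by decide +kernel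

theorem act9 : (act wd)^[9] 0 = 0 := by decide +kernel

theorem act3 : (act wd)^[3] 0 ≠ 0 := by decide +kernel

theorem zero_lt : 0 < chevE6.nroots := by decide +kernel

theorem conjRoot_pow (m : ℕ) : ConjRoot chevE6 F (nn F wd ^ m) 0 ((act wd)^[m] 0) ∧ (act wd)^[m] 0 < chevE6.nroots := by
  induction m with
  | zero => exact ⟨by rw [pow_zero]; exact conjRoot_one 0, zero_lt⟩
  | succ m ih =>
    obtain ⟨h1, h2⟩ := ih
    obtain ⟨h3, h4⟩ := conjRoot_nn F wd wd_lt h2
    rw [pow_succ', Function.iterate_succ_apply']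
    exact ⟨h1.mul h3, h4⟩

theorem nine_dvd {m : ℕ} (h : nn F wd ^ m = 1) : 9 ∣ m := by
  obtain ⟨h1, h2⟩ := conjRoot_pow F m
  rw [h] at h1
  have h3 : (act wd)^[m] 0 = 0 := ConjRoot.unique inE6 h1 (conjRoot_one 0) h2 zero_lt
  have h4 : Function.minimalPeriod (act wd) 0 = 3 ^ (1 + 1) := by
    have : Fact (Nat.Prime 3) := ⟨Nat.prime_three⟩
    refine Function.minimalPeriod_eq_prime_pow ?_ ?_
    · intro h
      exact act3 h
    · exact act9
  have h5 : Function.IsPeriodicPt (act wd) m 0 := h3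
  have h6 := h5.minimalPeriod_dvd
  rw [h4] at h6
  exact h6

/-- **`E₆(q)` has an element of order `9`** -/
theorem exists_nine [Finite F] : ∃ y : ↥(chevE6.group F), orderOf y = 9 := by
  have hfin : Finite ↥(chevE6.group F) := inferInstance
  set x : ↥(chevE6.group F) := ⟨nn F wd, nn_mem F wd⟩ with hx
  have h1 : 9 ∣ orderOf x := by
    refine nine_dvd F ?_
    have h2 := pow_orderOf_eq_one x
    have h3 := congrArg Subtype.val h2
    exact h3
  obtain ⟨m, hm⟩ := h1
  refine ⟨x ^ m, ?_⟩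
  have hm0 : m ≠ 0 := by
    rintro rfl
    have := orderOf_pos x
    omega
  rw [orderOf_pow_of_dvd hm0 (by rw [hm]; exact Dvd.intro_left 9 rfl), hm]
  exact Nat.mul_div_cancel _ (Nat.pos_of_ne_zero hm0)

end nine

/-! ### `3`-elements of `U₃(9)` -/

section cube

variable {K : Type v} [Field K] [Fintype K]

omit [Fintype K] in
theorem mat_cube [CharP K 3] {A : Matrix (Fin 3) (Fin 3) K} {j : ℕ} (h : A ^ 3 ^ j = 1) : A ^ 3 = 1 := by
  have : Fact (Nat.Prime 3) := ⟨Nat.prime_three⟩
  have hA : (A - 1) ^ 3 ^ j = 0 := by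
    rw [sub_pow_char_pow_of_commute (p := 3) j (Commute.one_right A), h, one_pow, sub_self]
  have hn : IsNilpotent (A - 1) := ⟨_, hA⟩
  have hc : (A - 1).charpoly = Polynomial.X ^ 3 := by
    have h1 := Matrix.isNilpotent_charpoly_sub_pow_of_isNilpotent hn
    have h2 := h1.eq_zero
    rw [sub_eq_zero] at h2
    rw [h2]
    simp
  have h3 := Matrix.aeval_self_charpoly (A - 1)
  rw [hc] at h3
  simp only [map_pow, Polynomial.aeval_X] at h3
  have h4 := sub_pow_char_of_commute (p := 3) (Commute.one_right A)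
  rw [h3, one_pow] at h4
  exact (sub_eq_zero.1 h4.symm)

theorem cube_psu (hK : Fintype.card K = 81) {y : PSU 3 K 9} {j : ℕ} (hy : y ^ 3 ^ j = 1) : y ^ 3 = 1 := by
  have h3 : Fact (Nat.Prime 3) := ⟨Nat.prime_three⟩
  have hch : CharP K 3 := by
    obtain ⟨p, hp⟩ := CharP.exists K
    obtain ⟨n, hpr, hn⟩ := FiniteField.card K p
    rw [hK] at hn
    have h5 : p ∣ 3 ^ 4 := by
      have : (3 : ℕ) ^ 4 = p ^ (n : ℕ) := by rw [← hn]; norm_num
      rw [this]
      exact dvd_pow_self _ n.ne_zero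
    have h6 := (Nat.prime_dvd_prime_iff_eq hpr Nat.prime_three).1 (hpr.dvd_of_dvd_pow h5)
    rwa [h6] at hp
  have hK' : Fintype.card K = 9 ^ 2 := by rw [hK]; norm_num
  have hcen : Subgroup.center (SU 3 K 9) = ⊥ := by
    have h7 := Cfsg.Agent.S0279.result hK' 3 le_rfl
    have h8 : Nat.gcd 3 (9 + 1) = 1 := by decide
    rw [h8] at h7
    exact (Subgroup.card_eq_one).1 h7
  obtain ⟨g, rfl⟩ := QuotientGroup.mk_surjective y
  have h1 : (g ^ 3 ^ j) ∈ Subgroup.center (SU 3 K 9) := by
    rw [← QuotientGroup.eq_one_iff]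
    exact hy
  rw [hcen, Subgroup.mem_bot] at h1
  have h2 : ((g : Matrix.SpecialLinearGroup (Fin 3) K) : Matrix (Fin 3) (Fin 3) K) ^ 3 ^ j = 1 := by
    have h3 := congrArg (fun z : SU 3 K 9 => ((z : Matrix.SpecialLinearGroup (Fin 3) K) : Matrix (Fin 3) (Fin 3) K)) h1
    simpa using h3
  have h4 := mat_cube h2
  have h5 : g ^ 3 = 1 := by
    apply Subtype.ext
    apply Subtype.ext
    simpa using h4
  rw [← QuotientGroup.mk_pow, h5]
  rfl

end cube

/-- a group with an element of order `9` has no subgroup whose Sylow `3`-subgroups are as large and have exponent `3` -/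
theorem false_of {G : Type u} {T : Type v} [Group G] [Finite G] [Group T] [Finite T] (f : T →* G)
    (hf : Function.Injective f) {y : G} (hy : orderOf y = 9)
    (hc : (Nat.card T).factorization 3 = (Nat.card G).factorization 3)
    (hT : ∀ (x : T) (j : ℕ), x ^ 3 ^ j = 1 → x ^ 3 = 1) : False := by
  have h3 : Fact (Nat.Prime 3) := ⟨Nat.prime_three⟩
  obtain ⟨P⟩ : Nonempty (Sylow 3 T) := inferInstance
  have hP : Nat.card ((P : Subgroup T).map f) = 3 ^ (Nat.card G).factorization 3 := by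
    rw [← hc, ← P.card_eq_multiplicity]
    exact (Nat.card_congr ((P : Subgroup T).equivMapOfInjective f hf).toEquiv).symm
  obtain ⟨Q, hQ⟩ := (IsPGroup.of_card (p := 3) (n := 2) (G := Subgroup.zpowers y)
    (by rw [Nat.card_zpowers, hy]; norm_num)).exists_le_sylow
  obtain ⟨g, hg⟩ := MulAction.exists_smul_eq G Q (Sylow.ofCard _ hP)
  have h1 : g * y * g⁻¹ ∈ (P : Subgroup T).map f := by
    have h2 : MulAut.conj g • y ∈ g • Q := by
      exact Subgroup.smul_mem_pointwise_smul _ _ _ (hQ (Subgroup.mem_zpowers y))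
    rw [hg] at h2
    exact h2
  obtain ⟨x, hx, hxy⟩ := h1
  obtain ⟨j, hj⟩ := P.isPGroup' ⟨x, hx⟩
  have h4 : x ^ 3 ^ j = 1 := congrArg Subtype.val hj
  have h5 := hT x j h4
  have h6 : y ^ 3 = 1 := by
    have h7 : (g * y * g⁻¹) ^ 3 = 1 := by rw [← hxy, ← map_pow, h5, map_one]
    rw [conj_pow] at h7
    have h8 := mul_inv_eq_one.1 h7
    simpa using h8
  have h9 := orderOf_dvd_of_pow_eq_one h6
  rw [hy] at h9
  omega

/-- `T` is a subgroup of `G` -/
theorem exists_hom {G : Type*} [Group G] {H N : Subgroup G} {T : Type} [Group T] {k : ℕ} {e : N ≃* (Fin k → T)}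
    (h : EPS H N e) : ∃ f : T →* G, Function.Injective f := by
  classical
  refine ⟨N.subtype.comp (e.symm.toMonoidHom.comp (MonoidHom.mulSingle (fun _ : Fin k => T) ⟨0, h.pos⟩)), ?_⟩
  intro a b hab
  have h1 : e.symm (Pi.mulSingle ⟨0, h.pos⟩ a) = e.symm (Pi.mulSingle ⟨0, h.pos⟩ b) := Subtype.ext hab
  have h2 := e.symm.injective h1
  exact Pi.mulSingle_injective (M := fun _ : Fin k => T) _ h2

theorem fac {n m : ℕ} (hn : n = 3 ^ 6 * m) (hm : ¬ 3 ∣ m) : n.factorization 3 = 6 := by
  rw [hn]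
  have hm0 : m ≠ 0 := by rintro rfl; exact hm (dvd_zero _)
  rw [Nat.factorization_mul (by norm_num) hm0, Nat.Prime.factorization_pow Nat.prime_three, Finsupp.add_apply,
    Finsupp.single_eq_same, Nat.factorization_eq_zero_of_not_dvd hm]

/-- **no `U₃(9)` in `E₆(2)`** -/
theorem e6_psu39 {F : Type u} [Field F] [Finite F] (hF : Nat.card F = 2) {H N : Subgroup ↥(chevE6.group F)} {k : ℕ}
    {T : Type} [Group T] {e : N ≃* (Fin k → T)} (h : EPS H N e) {K : Type v} [Field K] [Fintype K]
    (hK : Fintype.card K = 81) (i : T ≃* PSU 3 K 9) : False := by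
  have := Fintype.ofFinite F
  obtain ⟨f, hf⟩ := exists_hom h
  have hTf : Finite T := Finite.of_equiv _ i.symm.toEquiv
  obtain ⟨y, hy⟩ := exists_nine F
  have hK' : Fintype.card K = 9 ^ 2 := by rw [hK]; norm_num
  have hcard : Nat.card (PSU 3 K 9) = 42573600 := by
    have hc := Cfsg.Agent.S0280.result hK' 3 (by norm_num)
    have h3 : Nat.gcd 3 (9 + 1) = 1 := by decide
    have h4 : 9 ^ (3 * (3 - 1) / 2) * ∏ i ∈ Finset.range 3, (if Even i then 9 ^ (i + 1) + 1 else 9 ^ (i + 1) - 1) =
      425736000 := by decide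
    rw [h3, h4] at hc
    omega
  have hG : Nat.card ↥(chevE6.group F) = 214841575522005575270400 := by
    have hc := Cfsg.Agent.S1063.result (F := F) (q := 2) (by rw [← Nat.card_eq_fintype_card, hF])
    norm_num at hc
    exact hc
  refine false_of f hf hy ?_ ?_
  · rw [fac (m := 58400) (n := Nat.card T) ?_ (by norm_num),
      fac (m := 294707236655700377600) (n := Nat.card ↥(chevE6.group F)) ?_ (by norm_num)]
    · rw [hG]
      norm_num
    · rw [Nat.card_congr i.toEquiv, hcard]
      norm_num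
  · intro x j hx
    have h1 : (i x) ^ 3 ^ j = 1 := by rw [← map_pow, hx, map_one]
    have h2 := cube_psu hK h1
    apply i.injective
    rw [map_pow, h2, map_one]

end Cfsg.Agent.H41.EPX
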